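import Groth.Agent.L09.Nagata
import Mathlib.RingTheory.Flat.Basic
import Mathlib.RingTheory.Flat.TorsionFree
import Mathlib.RingTheory.Flat.Stability
import Mathlib.RingTheory.FinitePresentation
import Mathlib.RingTheory.FiniteStability
import Mathlib.RingTheory.TensorProduct.Quotient
import Mathlib.RingTheory.TensorProduct.MvPolynomial
import Mathlib.LinearAlgebra.TensorProduct.RightExactness
import Mathlib.LinearAlgebra.TensorProduct.Tower
import Mathlib.RingTheory.Valuation.ValuationSubring
import Mathlib.RingTheory.LocalRing.ResidueField.Basic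

/-!
Flatness and finite presentation over the preimage of a valuation ring of the residue field of a
local ring.
-/

set_option autoImplicit false
universe u

noncomputable section

namespace Groth.L15.Pullback

open TensorProduct IsLocalRing

section Chase

variable {S : Type u} [CommRing S] {X Y Q N G M : Type u}
  [AddCommGroup X] [Module S X] [AddCommGroup Y] [Module S Y] [AddCommGroup Q] [Module S Q]
  [AddCommGroup N] [Module S N] [AddCommGroup G] [Module S G] [AddCommGroup M] [Module S M]

/-- If `N → G → M → 0` is a flat presentation which stays exact on the left after tensoring with the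
cokernel of `f`, then `f ⊗ M` is injective. -/
theorem rTensor_injective [Module.Flat S G] {f : X →ₗ[S] Y} {g : Y →ₗ[S] Q} (hf : Function.Injective f)
    (hfg : Function.Exact f g) (hg : Function.Surjective g) {ι : N →ₗ[S] G} {π : G →ₗ[S] M}
    (hιπ : Function.Exact ι π) (hπ : Function.Surjective π) (hQ : Function.Injective (ι.lTensor Q)) :
    Function.Injective (f.rTensor M) := by
  rw [injective_iff_map_eq_zero]
  intro x hx
  obtain ⟨x', rfl⟩ := LinearMap.lTensor_surjective X hπ x
  have h1 : π.lTensor Y (f.rTensor G x') = 0 := by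
    rw [← LinearMap.comp_apply, LinearMap.lTensor_comp_rTensor, ← LinearMap.rTensor_comp_lTensor]
    exact hx
  obtain ⟨y, hy⟩ := (lTensor_exact Y hιπ hπ (f.rTensor G x')).mp h1
  have h2 : g.rTensor N y = 0 := by
    apply hQ
    rw [map_zero, ← LinearMap.comp_apply, LinearMap.lTensor_comp_rTensor, ← LinearMap.rTensor_comp_lTensor,
      LinearMap.comp_apply, hy, ← LinearMap.rTensor_comp_apply, hfg.linearMap_comp_eq_zero]
    simp
  obtain ⟨w, rfl⟩ := (rTensor_exact N hfg hg y).mp h2
  have h3 : f.rTensor G (x' - ι.lTensor X w) = 0 := by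
    rw [map_sub, ← LinearMap.comp_apply, LinearMap.rTensor_comp_lTensor, ← LinearMap.lTensor_comp_rTensor,
      LinearMap.comp_apply, hy, sub_self]
  have h4 := (injective_iff_map_eq_zero _).mp (Module.Flat.rTensor_preserves_injective_linearMap f hf) _ h3
  rw [sub_eq_zero] at h4
  rw [h4, ← LinearMap.lTensor_comp_apply, hιπ.linearMap_comp_eq_zero]
  simp

end Chase

section Quot

variable {O : Type u} [CommRing O] (P : Ideal O) {M : Type u} [AddCommGroup M] [Module O M]

theorem exists_one_tmul (x : (O ⧸ P) ⊗[O] M) : ∃ m : M, (1 : O ⧸ P) ⊗ₜ[O] m = x := by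
  induction x using TensorProduct.induction_on with
  | zero => exact ⟨0, tmul_zero _ _⟩
  | tmul r m =>
    obtain ⟨a, rfl⟩ := Ideal.Quotient.mk_surjective r
    refine ⟨a • m, ?_⟩
    rw [← smul_tmul, Algebra.smul_def, mul_one]
    rfl
  | add x y hx hy =>
    obtain ⟨a, ha⟩ := hx; obtain ⟨b, hb⟩ := hy
    exact ⟨a + b, by rw [tmul_add, ha, hb]⟩

theorem smul_tmul_one {p : O} (hp : p ∈ P) (m : M) : (1 : O ⧸ P) ⊗ₜ[O] (p • m) = 0 := by
  rw [← smul_tmul, Algebra.smul_def, mul_one, Ideal.Quotient.algebraMap_eq, Ideal.Quotient.eq_zero_iff_mem.mpr hp,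
    zero_tmul]

theorem mem_smul_of_one_tmul_eq_zero {m : M} (h : (1 : O ⧸ P) ⊗ₜ[O] m = 0) : m ∈ P • (⊤ : Submodule O M) := by
  have hex : Function.Exact P.subtype (Algebra.linearMap O (O ⧸ P)) := fun a =>
    (Ideal.Quotient.eq_zero_iff_mem).trans ⟨fun h => ⟨⟨a, h⟩, rfl⟩, fun ⟨b, hb⟩ => hb ▸ b.2⟩
  obtain ⟨q, hq⟩ := (rTensor_exact M hex (Ideal.Quotient.mk_surjective) ((1 : O) ⊗ₜ m)).mp (by simpa using h)
  rw [show m = TensorProduct.lid O M ((1 : O) ⊗ₜ m) by simp, ← hq]
  clear hq h
  induction q using TensorProduct.induction_on with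
  | zero => simp
  | tmul p x => simpa using Submodule.smul_mem_smul p.2 (Submodule.mem_top (x := x))
  | add x y hx hy => rw [map_add, map_add]; exact add_mem hx hy

end Quot

section Presentation

variable {O : Type u} [CommRing O] {P : Ideal O} {N G M : Type u} [AddCommGroup N] [Module O N]
  [AddCommGroup G] [Module O G] [AddCommGroup M] [Module O M]
  {ι : N →ₗ[O] G} {π : G →ₗ[O] M}

/-- An element of the image of `N` which is divisible by `P` in `G` is divisible by `P` in `N`, as
soon as `P ⊗ M → M` is injective. -/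
theorem mem_smul_of_mem_smul (hι : Function.Injective ι) (hιπ : Function.Exact ι π) (hπ : Function.Surjective π)
    (hP : Function.Injective (P.subtype.rTensor M)) {n : N} (hn : ι n ∈ P • (⊤ : Submodule O G)) :
    n ∈ P • (⊤ : Submodule O N) := by
  obtain ⟨q, hq⟩ : ∃ q : P ⊗[O] G, TensorProduct.lid O G (P.subtype.rTensor G q) = ι n := by
    generalize ι n = t at hn ⊢
    induction hn using Submodule.smul_induction_on' with
    | smul p hp x _ => exact ⟨⟨p, hp⟩ ⊗ₜ x, by simp⟩
    | add x _ y _ hx hy =>
      obtain ⟨a, ha⟩ := hx; obtain ⟨b, hb⟩ := hy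
      exact ⟨a + b, by rw [map_add, map_add, ha, hb]⟩
  have h0 : π.lTensor P q = 0 := by
    refine (injective_iff_map_eq_zero _).mp hP _ ((TensorProduct.lid O M).injective ?_)
    have key : ∀ z : P ⊗[O] G, TensorProduct.lid O M (P.subtype.rTensor M (π.lTensor P z)) =
        π (TensorProduct.lid O G (P.subtype.rTensor G z)) := fun z => by
      induction z using TensorProduct.induction_on with
      | zero => simp
      | tmul p x => simp
      | add x y hx hy => simp only [map_add, hx, hy]
    rw [key, hq, map_zero, hιπ.apply_apply_eq_zero]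
  obtain ⟨w, rfl⟩ := (lTensor_exact P hιπ hπ q).mp h0
  have key : ∀ z : P ⊗[O] N, TensorProduct.lid O G (P.subtype.rTensor G (ι.lTensor P z)) =
      ι (TensorProduct.lid O N (P.subtype.rTensor N z)) := fun z => by
    induction z using TensorProduct.induction_on with
    | zero => simp
    | tmul p x => simp
    | add x y hx hy => simp only [map_add, hx, hy]
  rw [key] at hq
  rw [← hι hq]
  clear hq h0
  induction w using TensorProduct.induction_on with
  | zero => simp
  | tmul p x => simpa using Submodule.smul_mem_smul p.2 (Submodule.mem_top (x := x))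
  | add x y hx hy => rw [map_add, map_add]; exact add_mem hx hy

theorem baseChange_quot_injective (hι : Function.Injective ι) (hιπ : Function.Exact ι π) (hπ : Function.Surjective π)
    (hP : Function.Injective (P.subtype.rTensor M)) : Function.Injective (ι.baseChange (O ⧸ P)) := by
  rw [injective_iff_map_eq_zero]
  intro x hx
  obtain ⟨n, rfl⟩ := exists_one_tmul P x
  rw [LinearMap.baseChange_tmul] at hx
  have h1 := mem_smul_of_mem_smul hι hιπ hπ hP (mem_smul_of_one_tmul_eq_zero P hx)
  clear hx
  induction h1 using Submodule.smul_induction_on' with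
  | smul p hp y _ => exact smul_tmul_one P hp y
  | add x _ y _ hx hy => rw [tmul_add, hx, hy, add_zero]

/-- Tensoring with a module killed by `P` keeps the presentation exact. -/
theorem lTensor_injective_of_torsionBySet [Module.Flat (O ⧸ P) ((O ⧸ P) ⊗[O] M)]
    (hι : Function.Injective ι) (hιπ : Function.Exact ι π) (hπ : Function.Surjective π)
    (hP : Function.Injective (P.subtype.rTensor M)) (Q : Type u) [AddCommGroup Q] [Module O Q]
    (hQ : Module.IsTorsionBySet O Q P) : Function.Injective (ι.lTensor Q) := by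
  letI := hQ.module
  haveI : IsScalarTower O (O ⧸ P) Q := hQ.isScalarTower
  have hex : Function.Exact (ι.baseChange (O ⧸ P)) (π.baseChange (O ⧸ P)) := lTensor_exact (O ⧸ P) hιπ hπ
  have hsurj : Function.Surjective (π.baseChange (O ⧸ P)) := LinearMap.lTensor_surjective (O ⧸ P) hπ
  let F := Q →₀ (O ⧸ P)
  let c : F →ₗ[O ⧸ P] Q := Finsupp.linearCombination (O ⧸ P) id
  have hc : Function.Surjective c := Finsupp.linearCombination_id_surjective (O ⧸ P) Q
  have h1 : Function.Injective ((ι.baseChange (O ⧸ P)).rTensor Q) :=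
    rTensor_injective (baseChange_quot_injective hι hιπ hπ hP) hex hsurj (N := ↥(LinearMap.ker c)) (ι := (LinearMap.ker c).subtype) (LinearMap.exact_subtype_ker_map c) hc
      (Module.Flat.lTensor_preserves_injective_linearMap (LinearMap.ker c).subtype (LinearMap.ker c).injective_subtype)
  have h2 : Function.Injective ((ι.baseChange (O ⧸ P)).lTensor Q) := by
    intro a b hab
    apply (TensorProduct.comm (O ⧸ P) Q ((O ⧸ P) ⊗[O] N)).injective
    apply h1
    rw [LinearMap.rTensor_def, TensorProduct.map_comm, TensorProduct.map_comm]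
    exact congrArg _ hab
  let eN := TensorProduct.AlgebraTensorModule.cancelBaseChange O (O ⧸ P) (O ⧸ P) Q N
  let eG := TensorProduct.AlgebraTensorModule.cancelBaseChange O (O ⧸ P) (O ⧸ P) Q G
  have key : ∀ z, eG ((ι.baseChange (O ⧸ P)).lTensor Q z) = ι.lTensor Q (eN z) := fun z => by
    induction z using TensorProduct.induction_on with
    | zero => simp
    | tmul q x =>
      induction x using TensorProduct.induction_on with
      | zero => simp
      | tmul r n => simp [eN, eG]
      | add x y hx hy => simp only [tmul_add, map_add, hx, hy]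
    | add x y hx hy => simp only [map_add, hx, hy]
  intro a b hab
  obtain ⟨a, rfl⟩ := eN.surjective a
  obtain ⟨b, rfl⟩ := eN.surjective b
  rw [← key, ← key] at hab
  rw [h2 (eG.injective hab)]

omit [AddCommGroup N] [Module O N] [AddCommGroup G] [Module O G] in
/-- `f ⊗ M` is injective when `f` is injective with cokernel killed by `P`. -/
theorem rTensor_injective_of_smul_mem_range [Module.Flat (O ⧸ P) ((O ⧸ P) ⊗[O] M)]
    (hP : Function.Injective (P.subtype.rTensor M)) {X Y : Type u} [AddCommGroup X] [Module O X]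
    [AddCommGroup Y] [Module O Y] (f : X →ₗ[O] Y) (hf : Function.Injective f)
    (h : ∀ p ∈ P, ∀ y : Y, p • y ∈ LinearMap.range f) : Function.Injective (f.rTensor M) := by
  have hc : Function.Surjective (Finsupp.linearCombination O (id : M → M)) :=
    Finsupp.linearCombination_id_surjective O M
  have htors : Module.IsTorsionBySet O (Y ⧸ LinearMap.range f) P := by
    rintro x ⟨p, hp⟩
    obtain ⟨y, rfl⟩ := Submodule.Quotient.mk_surjective _ x
    exact (Submodule.Quotient.mk_eq_zero _).mpr (h p hp y)
  have h1 : Function.Injective ((LinearMap.ker (Finsupp.linearCombination O (id : M → M))).subtype.lTensor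
      (Y ⧸ LinearMap.range f)) :=
    lTensor_injective_of_torsionBySet (Submodule.injective_subtype _) (LinearMap.exact_subtype_ker_map _) hc hP _ htors
  exact rTensor_injective hf (LinearMap.exact_map_mkQ_range f) (Submodule.mkQ_surjective _)
    (LinearMap.exact_subtype_ker_map _) hc h1

end Presentation

section Main

variable {A : Type u} [CommRing A] [IsLocalRing A] {R : ValuationSubring (ResidueField A)} {O : Subring A}
  (hO : O = R.toSubring.comap (residue A))

include hO in
theorem mem_O {x : A} : x ∈ O ↔ residue A x ∈ R := by rw [hO]; rfl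

include hO in
theorem mem_O_of_mem {x : A} (hx : x ∈ maximalIdeal A) : x ∈ O := by
  rw [mem_O hO, (residue_eq_zero_iff x).mpr hx]; exact R.zero_mem

variable (O) in
/-- The kernel of the map to the valuation ring. -/
def P : Ideal O := (maximalIdeal A).comap O.subtype

include hO in
theorem exists_equiv : Nonempty ((O ⧸ P O) ≃+* R) := by
  let φ : O →+* R := ((residue A).comp O.subtype).codRestrict R.toSubring fun x => (mem_O hO).mp x.2
  have hφ : Function.Surjective φ := fun z => by
    obtain ⟨x, hx⟩ := residue_surjective (z : ResidueField A)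
    exact ⟨⟨x, (mem_O hO).mpr (hx ▸ z.2)⟩, Subtype.ext hx⟩
  have hker : RingHom.ker φ = P O := by
    ext x
    exact ⟨fun h => (residue_eq_zero_iff _).mp (congrArg Subtype.val h),
      fun h => Subtype.ext ((residue_eq_zero_iff _).mpr h)⟩
  exact ⟨(Ideal.quotEquivOfEq hker.symm).trans (RingHom.quotientKerEquivOfSurjective hφ)⟩

include hO in
theorem P_le_span {s : O} (hs : s ∉ P O) : P O ≤ Ideal.span {s} := by
  intro p hp
  obtain ⟨v, hv⟩ := IsLocalRing.notMem_maximalIdeal.mp hs
  refine Ideal.mem_span_singleton.mpr ⟨⟨(v⁻¹ : Aˣ) * (p : A), mem_O_of_mem hO (Ideal.mul_mem_left _ _ hp)⟩, ?_⟩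
  refine Subtype.ext ?_
  show (p : A) = (s : A) * ((v⁻¹ : Aˣ) * (p : A))
  rw [← mul_assoc, ← show (v : A) = (s : A) from hv, Units.mul_inv, one_mul]

variable {C : Type u} [CommRing C] [Algebra O C]
  (hadm : Function.Injective (Algebra.TensorProduct.includeRight : C →ₐ[O] A ⊗[O] C))
  [Module.Flat A (A ⊗[O] C)]

include hadm in
theorem eq_zero_of_smul {s : O} (hs : s ∉ P O) {c : C} (h : s • c = 0) : c = 0 := by
  refine hadm ?_
  have h1 : (1 : A) ⊗ₜ[O] (s • c) = 0 := by rw [h, tmul_zero]
  rw [← smul_tmul, Subring.smul_def, smul_eq_mul, mul_one] at h1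
  obtain ⟨v, hv⟩ := IsLocalRing.notMem_maximalIdeal.mp hs
  have h2 : (1 : A) ⊗ₜ[O] c = ((v⁻¹ : Aˣ) : A) • ((s : A) ⊗ₜ[O] c) := by
    rw [smul_tmul', smul_eq_mul, ← show (v : A) = (s : A) from hv, Units.inv_mul]
  rw [map_zero, Algebra.TensorProduct.includeRight_apply, h2, h1, smul_zero]

include hO hadm in
/-- For an ideal `J` of `A` inside the maximal ideal, `(J ∩ O) ⊗ C → C` is injective. -/
theorem rTensor_comap_injective (J : Ideal A) (hJ : J ≤ maximalIdeal A) :
    Function.Injective ((J.comap O.subtype).subtype.rTensor C) := by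
  let e : (J.comap O.subtype) ≃ₗ[O] J :=
    { toFun := fun x => ⟨(x : O), x.2⟩
      invFun := fun x => ⟨⟨x, mem_O_of_mem hO (hJ x.2)⟩, x.2⟩
      map_add' := fun _ _ => rfl
      map_smul' := fun _ _ => rfl
      left_inv := fun _ => rfl
      right_inv := fun _ => rfl }
  let c := TensorProduct.AlgebraTensorModule.cancelBaseChange O A A J C
  have key : ∀ x, (J.subtype.rTensor (A ⊗[O] C)) (c.symm (e.toLinearMap.rTensor C x)) =
      (TensorProduct.lid A (A ⊗[O] C)).symm
        (Algebra.TensorProduct.includeRight (TensorProduct.lid O C ((J.comap O.subtype).subtype.rTensor C x))) := fun x => by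
    induction x using TensorProduct.induction_on with
    | zero => simp
    | tmul j m =>
      apply (TensorProduct.lid A (A ⊗[O] C)).injective
      have h1 : c.symm ((e j) ⊗ₜ[O] m) = (e j : J) ⊗ₜ[A] ((1 : A) ⊗ₜ[O] m) :=
        TensorProduct.AlgebraTensorModule.cancelBaseChange_symm_tmul ..
      rw [LinearEquiv.apply_symm_apply]
      simp only [LinearMap.rTensor_tmul, LinearEquiv.coe_coe, Submodule.subtype_apply, TensorProduct.lid_tmul,
        Algebra.TensorProduct.includeRight_apply]
      erw [h1]
      rw [LinearMap.rTensor_tmul, TensorProduct.lid_tmul, ← smul_tmul, Subring.smul_def, smul_tmul']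
      rfl
    | add x y hx hy => simp only [map_add, hx, hy]
  rw [injective_iff_map_eq_zero]
  intro x hx
  have h1 := key x
  rw [hx, map_zero, map_zero, map_zero] at h1
  have h2 := (injective_iff_map_eq_zero _).mp
    (Module.Flat.rTensor_preserves_injective_linearMap _ J.injective_subtype) _ h1
  have h3 := (LinearEquiv.map_eq_zero_iff _).mp h2
  exact (LinearEquiv.map_eq_zero_iff (e.rTensor C)).mp h3

include hO hadm in
theorem flat_quot : Module.Flat (O ⧸ P O) ((O ⧸ P O) ⊗[O] C) := by
  obtain ⟨eR⟩ := exists_equiv hO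
  haveI : IsDomain (O ⧸ P O) := eR.toMulEquiv.isDomain R
  haveI : ValuationRing (O ⧸ P O) := Function.Surjective.valuationRing (eR.symm : R ≃+* _).toRingHom eR.symm.surjective
  rw [Module.Flat.flat_iff_torsion_eq_bot_of_isBezout, eq_bot_iff]
  rintro x ⟨⟨a, ha⟩, hax⟩
  obtain ⟨s, rfl⟩ := Ideal.Quotient.mk_surjective a
  obtain ⟨c, rfl⟩ := exists_one_tmul (P O) x
  have hs : s ∉ P O := fun h => nonZeroDivisors.ne_zero ha (Ideal.Quotient.eq_zero_iff_mem.mpr h)
  have h1 : s • c ∈ P O • (⊤ : Submodule O C) := by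
    apply mem_smul_of_one_tmul_eq_zero
    rw [tmul_smul]
    rw [← hax, Submonoid.mk_smul, ← Ideal.Quotient.algebraMap_eq, algebraMap_smul]
  obtain ⟨d, hd, hd'⟩ : ∃ d ∈ P O • (⊤ : Submodule O C), s • c = s • d := by
    generalize s • c = t at h1 ⊢
    induction h1 using Submodule.smul_induction_on' with
    | smul p hp y _ =>
      obtain ⟨p', hp'⟩ := Ideal.mem_span_singleton.mp (P_le_span hO hs hp)
      refine ⟨p' • y, Submodule.smul_mem_smul ?_ Submodule.mem_top, by rw [hp', mul_smul]⟩
      haveI : (P O).IsPrime := Ideal.comap_isPrime _ _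
      exact ((Ideal.IsPrime.mem_or_mem inferInstance (hp' ▸ hp)).resolve_left hs)
    | add x _ y _ hx hy =>
      obtain ⟨a, ha, ha'⟩ := hx; obtain ⟨b, hb, hb'⟩ := hy
      exact ⟨a + b, add_mem ha hb, by rw [ha', hb', smul_add]⟩
  have hcd : c = d := sub_eq_zero.mp (eq_zero_of_smul hadm hs (by rw [smul_sub, hd', sub_self]))
  rw [Submodule.mem_bot, hcd]
  clear hcd hd'
  induction hd using Submodule.smul_induction_on' with
  | smul p hp y _ => exact smul_tmul_one _ hp y
  | add x _ y _ hx hy => rw [tmul_add, hx, hy, add_zero]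

include hO hadm in
theorem flat : Module.Flat O C := by
  haveI := flat_quot hO hadm
  have hP : Function.Injective ((P O).subtype.rTensor C) := rTensor_comap_injective hO hadm _ le_rfl
  rw [Module.Flat.iff_rTensor_injective]
  intro I hI
  by_cases hIP : I ≤ P O
  · set Jh := I.map O.subtype with hJh
    set J := Jh.comap O.subtype with hJ
    have hIJ : I ≤ J := Ideal.le_comap_map
    have hJm : Jh ≤ maximalIdeal A := Ideal.map_le_iff_le_comap.mpr hIP
    have hinjJ := rTensor_comap_injective hO hadm Jh hJm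
    have h1 : Function.Injective ((Submodule.inclusion hIJ).rTensor C) := by
      refine rTensor_injective_of_smul_mem_range hP _ (Submodule.inclusion_injective hIJ) fun p hp j => ?_
      rw [Submodule.range_inclusion, Submodule.mem_comap]
      show p * (j : O) ∈ I
      have hj : ((j : O) : A) ∈ Ideal.span (O.subtype '' (I : Set O)) := j.2
      obtain ⟨z, hz, hz'⟩ : ∃ z ∈ I, (z : A) = (p : A) * ((j : O) : A) := by
        generalize ((j : O) : A) = t at hj ⊢
        induction hj using Submodule.span_induction generalizing p with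
        | mem y hy => obtain ⟨i, hi, rfl⟩ := hy; exact ⟨p * i, I.mul_mem_left p hi, rfl⟩
        | zero => exact ⟨0, I.zero_mem, by simp⟩
        | add a b _ _ iha ihb =>
          obtain ⟨x, hx, hx'⟩ := iha p hp; obtain ⟨y, hy, hy'⟩ := ihb p hp
          exact ⟨x + y, add_mem hx hy, by rw [Subring.coe_add, hx', hy', mul_add]⟩
        | smul a b _ ih =>
          have hpa : (p : A) * a ∈ maximalIdeal A := Ideal.mul_mem_right _ _ hp
          obtain ⟨x, hx, hx'⟩ := ih ⟨(p : A) * a, mem_O_of_mem hO hpa⟩ hpa
          exact ⟨x, hx, hx'.trans (mul_assoc _ _ _)⟩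
      exact (show p * (j : O) = z from Subtype.ext hz'.symm) ▸ hz
    rw [show I.subtype = J.subtype ∘ₗ Submodule.inclusion hIJ from rfl, LinearMap.rTensor_comp]
    exact hinjJ.comp h1
  · obtain ⟨eR⟩ := exists_equiv hO
    obtain ⟨t, ht⟩ : ∃ t : R, (I.map (Ideal.Quotient.mk (P O))).map eR.toRingHom = Ideal.span {t} :=
      (IsBezout.isPrincipal_of_FG _ ((hI.map _).map _)).principal
    have hsurj : Function.Surjective (eR.toRingHom.comp (Ideal.Quotient.mk (P O))) :=
      eR.surjective.comp Ideal.Quotient.mk_surjective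
    obtain ⟨s, hsI, hst⟩ := (Ideal.mem_map_iff_of_surjective _ hsurj).mp
      (Ideal.map_map (I := I) (Ideal.Quotient.mk (P O)) eR.toRingHom ▸ ht ▸ Ideal.mem_span_singleton_self t)
    have hker : RingHom.ker (eR.toRingHom.comp (Ideal.Quotient.mk (P O))) = P O := by
      rw [← RingHom.comap_ker, (RingHom.injective_iff_ker_eq_bot eR.toRingHom).mp eR.injective, ← RingHom.ker_eq_comap_bot, Ideal.mk_ker]
    have hsP : s ∉ P O := by
      intro h
      rw [← hker, RingHom.mem_ker, hst] at h
      apply hIP
      intro i hi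
      rw [← hker, RingHom.mem_ker, ← Ideal.mem_bot, ← Ideal.span_singleton_zero, ← h, ← ht, Ideal.map_map]
      exact Ideal.mem_map_of_mem _ hi
    have hgen : I = Ideal.span {s} := by
      refine le_antisymm (fun i hi => ?_) ((Ideal.span_singleton_le_iff_mem _).mpr hsI)
      have : eR.toRingHom.comp (Ideal.Quotient.mk (P O)) i ∈ Ideal.span {t} := by
        rw [← ht, Ideal.map_map]; exact Ideal.mem_map_of_mem _ hi
      obtain ⟨r, hr⟩ := Ideal.mem_span_singleton.mp this
      obtain ⟨b, rfl⟩ := hsurj r
      rw [← hst, ← map_mul, ← sub_eq_zero, ← map_sub, ← RingHom.mem_ker, hker] at hr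
      have := add_mem (P_le_span hO hsP hr) (Ideal.mul_mem_right b _ (Ideal.mem_span_singleton_self s))
      rwa [sub_add_cancel] at this
    subst hgen
    have hmul : ∀ z : (Ideal.span {s} : Ideal O) ⊗[O] C,
        ∃ c, z = ⟨s, Ideal.mem_span_singleton_self s⟩ ⊗ₜ c := fun z => by
      induction z using TensorProduct.induction_on with
      | zero => exact ⟨0, (tmul_zero _ _).symm⟩
      | tmul i m =>
        obtain ⟨b, hb⟩ := Ideal.mem_span_singleton'.mp i.2
        refine ⟨b • m, ?_⟩
        rw [← smul_tmul]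
        congr 1
        exact Subtype.ext hb.symm
      | add x y hx hy =>
        obtain ⟨a, rfl⟩ := hx; obtain ⟨b, rfl⟩ := hy
        exact ⟨a + b, (tmul_add _ _ _).symm⟩
    rw [injective_iff_map_eq_zero]
    intro z hz
    obtain ⟨c, rfl⟩ := hmul z
    have := congrArg (TensorProduct.lid O C) hz
    simp only [LinearMap.rTensor_tmul, Submodule.subtype_apply, TensorProduct.lid_tmul, map_zero] at this
    rw [eq_zero_of_smul hadm hsP this, tmul_zero]

include hO hadm in
theorem finitePresentation [Algebra.FiniteType O C] [Algebra.FinitePresentation A (A ⊗[O] C)] :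
    Algebra.FinitePresentation O C := by
  classical
  haveI := flat_quot hO hadm
  have hP : Function.Injective ((P O).subtype.rTensor C) := rTensor_comap_injective hO hadm _ le_rfl
  obtain ⟨eR⟩ := exists_equiv hO
  haveI : IsDomain (O ⧸ P O) := eR.toMulEquiv.isDomain R
  haveI : ValuationRing (O ⧸ P O) := Function.Surjective.valuationRing (eR.symm : R ≃+* _).toRingHom eR.symm.surjective
  haveI : Algebra.FinitePresentation (O ⧸ P O) ((O ⧸ P O) ⊗[O] C) :=
    @Groth.L09.Nagata.finitePresentation_of_flat (O ⧸ P O) _ _ _ ((O ⧸ P O) ⊗[O] C) _ _ _ _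
  obtain ⟨n, π, hπ⟩ := Algebra.FiniteType.iff_quotient_mvPolynomial''.mp ‹Algebra.FiniteType O C›
  set G := MvPolynomial (Fin n) O
  set J := RingHom.ker π.toRingHom with hJ
  -- finitely many generators after either base change
  have gens : ∀ (B : Type u) [CommRing B] [Algebra O B] [Algebra.FinitePresentation B (B ⊗[O] C)],
      ∃ T : Finset G, (∀ x ∈ T, x ∈ J) ∧ ∀ f ∈ J,
        (1 : B) ⊗ₜ[O] f ∈ Ideal.span ((Algebra.TensorProduct.includeRight : G →ₐ[O] B ⊗[O] G) '' T) := by
    intro B _ _ _
    let Φ := Algebra.TensorProduct.map (AlgHom.id B B) π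
    have hfg : (RingHom.ker Φ.toRingHom).FG := Algebra.FinitePresentation.ker_fG_of_surjective Φ
      (Algebra.FiniteType.baseChangeAux_surj B hπ)
    have heq : RingHom.ker Φ.toRingHom =
        J.map (Algebra.TensorProduct.includeRight : G →ₐ[O] B ⊗[O] G) :=
      (Ideal.ext fun _ => Iff.rfl).trans (Algebra.TensorProduct.lTensor_ker (A := B) π hπ)
    rw [heq, Ideal.map] at hfg
    obtain ⟨T', hT', hspan⟩ := Submodule.fg_span_iff_fg_span_finset_subset _ |>.mp hfg
    obtain ⟨T, hT, rfl⟩ := Finset.subset_set_image_iff.mp hT'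
    refine ⟨T, fun x hx => hT hx, fun f hf => ?_⟩
    rw [← Finset.coe_image]
    exact hspan.le (Submodule.subset_span ⟨f, hf, rfl⟩)
  obtain ⟨T₁, hT₁, hgen₁⟩ := gens (O ⧸ P O)
  obtain ⟨T₂, hT₂, hgen₂⟩ := gens A
  set J₀ := Ideal.span ((T₁ ∪ T₂ : Finset G) : Set G)
  have hinj : Function.Injective (Algebra.TensorProduct.includeRight : G →ₐ[O] A ⊗[O] G) :=
    Algebra.TensorProduct.includeRight_injective (Subtype.val_injective : Function.Injective (algebraMap O A))
  have hkey : ∀ t ∈ Ideal.span ((Algebra.TensorProduct.includeRight : G →ₐ[O] A ⊗[O] G) '' T₂),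
      ∀ p ∈ P O, ∀ a : A ⊗[O] G, ∃ g ∈ J₀, (1 : A) ⊗ₜ[O] g = (p • a) * t := by
    intro t ht
    induction ht using Submodule.span_induction with
    | mem y hy =>
      intro p hp a
      obtain ⟨i, hi, rfl⟩ := hy
      obtain ⟨a', ha'⟩ : ∃ a' : G, (1 : A) ⊗ₜ[O] a' = p • a := by
        induction a using TensorProduct.induction_on with
        | zero => exact ⟨0, by simp⟩
        | tmul α g =>
          refine ⟨(⟨(p : A) * α, mem_O_of_mem hO (Ideal.mul_mem_right _ _ hp)⟩ : O) • g, ?_⟩
          rw [← smul_tmul, smul_tmul', Subring.smul_def, Subring.smul_def, smul_eq_mul, smul_eq_mul, mul_one]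
        | add x y hx hy =>
          obtain ⟨x', hx⟩ := hx; obtain ⟨y', hy⟩ := hy
          exact ⟨x' + y', by rw [tmul_add, hx, hy, smul_add]⟩
      exact ⟨a' * i, J₀.mul_mem_left _ (Ideal.subset_span (Finset.mem_union_right _ hi)), by
        rw [← ha', Algebra.TensorProduct.includeRight_apply, Algebra.TensorProduct.tmul_mul_tmul, one_mul]⟩
    | zero => exact fun p _ a => ⟨0, J₀.zero_mem, by simp⟩
    | add a b _ _ iha ihb =>
      intro p hp c
      obtain ⟨x, hx, hx'⟩ := iha p hp c; obtain ⟨y, hy, hy'⟩ := ihb p hp c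
      exact ⟨x + y, add_mem hx hy, by rw [tmul_add, hx', hy', mul_add]⟩
    | smul c b _ ih =>
      intro p hp a
      obtain ⟨x, hx, hx'⟩ := ih p hp (a * c)
      exact ⟨x, hx, hx'.trans (by rw [smul_eq_mul, ← smul_mul_assoc, mul_assoc])⟩
  have hsmul : ∀ p ∈ P O, ∀ f ∈ J, p • f ∈ J₀ := by
    intro p hp f hf
    obtain ⟨g, hg, hg'⟩ := hkey _ (hgen₂ f hf) p hp 1
    rw [smul_mul_assoc, one_mul, ← tmul_smul] at hg'
    exact hinj hg' ▸ hg
  refine Algebra.FinitePresentation.of_surjective hπ ⟨T₁ ∪ T₂, le_antisymm ?_ ?_⟩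
  · rw [Ideal.span_le]
    intro x hx
    rcases Finset.mem_union.mp hx with h | h
    exacts [hT₁ x h, hT₂ x h]
  intro f hf
  show f ∈ J₀
  have hsurj : Function.Surjective (Algebra.TensorProduct.includeRight : G →ₐ[O] (O ⧸ P O) ⊗[O] G) :=
    exists_one_tmul (P O)
  obtain ⟨g, hg, hg'⟩ : ∃ g ∈ Ideal.span (T₁ : Set G), (1 : O ⧸ P O) ⊗ₜ[O] g = (1 : O ⧸ P O) ⊗ₜ[O] f := by
    have := hgen₁ f hf
    rw [← Ideal.map_span] at this
    exact (Ideal.mem_map_iff_of_surjective _ hsurj).mp this
  have hgJ : g ∈ J := Ideal.span_le.mpr (fun x hx => hT₁ x hx) hg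
  have hker : ∀ z, π.toLinearMap z = 0 ↔ z ∈ J := fun z => (RingHom.mem_ker (f := π.toRingHom)).symm
  have hmem : f - g ∈ LinearMap.ker π.toLinearMap := LinearMap.mem_ker.mpr ((hker _).mpr (J.sub_mem hf hgJ))
  have h1 : (f - g : G) ∈ P O • (⊤ : Submodule O G) := by
    refine mem_smul_of_one_tmul_eq_zero (P O) ?_
    rw [tmul_sub, hg', sub_self]
  have hsub : (⟨f - g, hmem⟩ : LinearMap.ker π.toLinearMap) ∈
      P O • (⊤ : Submodule O (LinearMap.ker π.toLinearMap)) :=
    mem_smul_of_mem_smul (N := ↥(LinearMap.ker π.toLinearMap)) (ι := (LinearMap.ker π.toLinearMap).subtype)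
      (π := π.toLinearMap) (Submodule.injective_subtype _) (LinearMap.exact_subtype_ker_map _) hπ hP h1
  have h : ∀ y ∈ P O • (⊤ : Submodule O (LinearMap.ker π.toLinearMap)), (y : G) ∈ J₀ := fun y hy => by
    induction hy using Submodule.smul_induction_on' with
    | smul p hp z _ => exact hsmul p hp z ((hker _).mp (LinearMap.mem_ker.mp z.2))
    | add x _ y _ hx hy => exact add_mem hx hy
  have hsub' : f - g ∈ J₀ := h _ hsub
  have : g ∈ J₀ := Ideal.span_mono (by simp) hg
  simpa using add_mem hsub' this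

end Main

end Groth.L15.Pullback
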